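import Groth.Agent.AmpleVan.LiftFibre
import Groth.Agent.QCoh.HHExact

/-!
# Global retractions from local ones when `H¹` of the homomorphisms vanishes
-/

set_option autoImplicit false
set_option linter.style.haveILetI false
set_option backward.isDefEq.respectTransparency false
set_option backward.isDefEq.respectTransparency.types false
set_option maxHeartbeats 1000000

universe u

open CategoryTheory CategoryTheory.Limits AlgebraicGeometry TopologicalSpace Opposite

namespace Groth.Agent.LiftGlue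

open Groth.Agent

variable {Z : Scheme.{u}}

theorem isIso_restrict_hom_map (F : Z.Modules) (U : Z.Opens) {A B : Z.Modules} (g : A ⟶ B)
    [IsIso ((Scheme.Modules.restrictFunctor U.ι).map g)] :
    IsIso ((Scheme.Modules.restrictFunctor U.ι).map ((SheafHomX.hom F).map g)) := by
  haveI : IsIso ((Scheme.Modules.restrictFunctor U.ι ⋙
      SheafHomX.hom ((Scheme.Modules.restrictFunctor U.ι).obj F)).map g) :=
    inferInstanceAs (IsIso ((SheafHomX.hom _).map ((Scheme.Modules.restrictFunctor U.ι).map g)))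
  exact (NatIso.isIso_map_iff (SheafHomX.restrictIso U.ι F) g).2 this

theorem tenUnitIso_naturality {M M' : Z.Modules} (g : M ⟶ M') :
    ((DCoh.tensorBi (X := Z)).flip.map g).app (Coh.structureModule Z) ≫ (SheafHomX.tenUnitIso M').hom =
      (SheafHomX.tenUnitIso M).hom ≫ g := by
  have h1 : ((DCoh.tensorBi (X := Z)).flip.map g).app (Coh.structureModule Z) ≫
        ((KFlatLib.tensorBiFlipIso Z).hom.app M').app (Coh.structureModule Z) =
      ((KFlatLib.tensorBiFlipIso Z).hom.app M).app (Coh.structureModule Z) ≫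
        ((DCoh.tensorBi (X := Z)).map g).app (Coh.structureModule Z) :=
    congr_app ((KFlatLib.tensorBiFlipIso Z).hom.naturality g) (Coh.structureModule Z)
  have h2 : ((DCoh.tensorBi (X := Z)).map g).app (Coh.structureModule Z) ≫
        (KFlatLib.tensorStructureIso Z).hom.app M' =
      (KFlatLib.tensorStructureIso Z).hom.app M ≫ g :=
    (KFlatLib.tensorStructureIso Z).hom.naturality g
  show _ ≫ (_ ≫ _) = (_ ≫ _) ≫ g
  exact (Category.assoc _ _ _).symm.trans ((congrArg (· ≫ _) h1).trans
    ((Category.assoc _ _ _).trans ((congrArg (_ ≫ ·) h2).trans (Category.assoc _ _ _).symm)))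

theorem ev_homMap {M M' N : Z.Modules} (g : M ⟶ M') (x : Coh.structureModule Z ⟶ (SheafHomX.hom M').obj N) :
    SheafHomX.ev M N (x ≫ (SheafHomX.homMap g).app N) = g ≫ SheafHomX.ev M' N x := by
  show (SheafHomX.tenUnitIso M).inv ≫ ((SheafHomX.adj M).homEquiv _ _).symm (x ≫ (SheafHomX.homMap g).app N) =
    g ≫ (SheafHomX.tenUnitIso M').inv ≫ ((SheafHomX.adj M').homEquiv _ _).symm x
  rw [SheafHomX.homEquiv_homMap, Iso.inv_comp_eq, ← reassoc_of% (tenUnitIso_naturality g), Iso.hom_inv_id_assoc]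

theorem surjective_comp_of_HH_one {S : ShortComplex Z.Modules} (hS : S.ShortExact)
    (h : Subsingleton (Coh.HH Z S.X₁ 1)) (y : Coh.structureModule Z ⟶ S.X₃) :
    ∃ x : Coh.structureModule Z ⟶ S.X₂, x ≫ S.g = y := by
  obtain ⟨t, ht⟩ := QCoh.app_top_surjective_of_HH_one hS h (InvX.one y)
  refine ⟨InvX.ofSect t, SheafHomX.cls_injective ?_⟩
  refine congrArg (Sheaf.H.equiv₀ (Coh.toAb S.X₃) isTerminalTop).symm ?_
  show S.g.app ⊤ (InvX.one (InvX.ofSect t)) = InvX.one y
  rw [InvX.one_ofSect, ht]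

theorem subsingleton_HH_of_iso {M N : Z.Modules} (e : M ≅ N) (n : ℕ) (h : Subsingleton (Coh.HH Z M n)) :
    Subsingleton (Coh.HH Z N n) := AmpleVan.subsingleton_of_iso e n h

/-- A locally split map `C ⟶ N` with cokernel `Q` splits if `H¹(Hom(Q, C)) = 0`. -/
theorem exists_retraction_of_local {C N Q : Z.Modules} (f : C ⟶ N) (g : N ⟶ Q) (w : f ≫ g = 0)
    (hex : (ShortComplex.mk f g w).Exact) [Epi g]
    (h1 : Subsingleton (Coh.HH Z ((SheafHomX.hom Q).obj C) 1))
    {κ : Type*} (U : κ → Z.Opens) (hU : IsOpenCover U) (Ck : κ → Z.Modules) (u : ∀ k, C ⟶ Ck k)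
    (hu : ∀ k, IsIso ((Scheme.Modules.restrictFunctor (U k).ι).map (u k)))
    (r : ∀ k, N ⟶ Ck k) (hr : ∀ k, f ≫ r k = u k) :
    ∃ r : N ⟶ C, f ≫ r = 𝟙 C := by
  let α := (SheafHomX.homMap f).app C
  let y : Coh.structureModule Z ⟶ (SheafHomX.hom C).obj C := (SheafHomX.ev C C).symm (𝟙 C)
  have hy : y ≫ cokernel.π α = 0 := by
    refine H23.ModLoc.hom_ext_of_locally _ _ fun x => ?_
    obtain ⟨k, hk⟩ : ∃ k, x ∈ U k := Opens.mem_iSup.mp (hU.symm ▸ trivial : x ∈ iSup U)
    refine ⟨U k, hk, ?_⟩
    let R := Scheme.Modules.restrictFunctor (U k).ι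
    haveI := hu k
    haveI : IsIso (R.map ((SheafHomX.hom C).map (u k))) := isIso_restrict_hom_map C (U k) (u k)
    haveI : IsIso (R.map ((SheafHomX.hom N).map (u k))) := isIso_restrict_hom_map N (U k) (u k)
    let z := (SheafHomX.ev N (Ck k)).symm (r k)
    have key : z ≫ (SheafHomX.homMap f).app (Ck k) = y ≫ (SheafHomX.hom C).map (u k) := by
      apply (SheafHomX.ev C (Ck k)).injective
      rw [ev_homMap, SheafHomX.ev_naturality, AddEquiv.apply_symm_apply, AddEquiv.apply_symm_apply,
        hr, Category.id_comp]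
    have nat : (SheafHomX.hom N).map (u k) ≫ (SheafHomX.homMap f).app (Ck k) =
        α ≫ (SheafHomX.hom C).map (u k) := (SheafHomX.homMap f).naturality (u k)
    have hy' : R.map y = (R.map z ≫ inv (R.map ((SheafHomX.hom N).map (u k)))) ≫ R.map α := by
      rw [← cancel_mono (R.map ((SheafHomX.hom C).map (u k))), ← R.map_comp, ← key]
      simp only [Category.assoc]
      rw [← R.map_comp, ← nat, R.map_comp, R.map_comp, IsIso.inv_hom_id_assoc]
    rw [Functor.map_comp, Functor.map_zero, hy', Category.assoc, ← R.map_comp, cokernel.condition,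
      Functor.map_zero, comp_zero]
  obtain ⟨eK⟩ := SheafHomX.exists_kernel_iso hex C
  let y' : Coh.structureModule Z ⟶ Abelian.image α := kernel.lift _ y hy
  have hz : kernel.ι α ≫ Abelian.factorThruImage α = 0 := by
    rw [← cancel_mono (Abelian.image.ι α), Category.assoc, Abelian.image.fac, kernel.condition, zero_comp]
  have hS : (ShortComplex.mk (kernel.ι α) (Abelian.factorThruImage α) hz).ShortExact := by
    refine { exact := ShortComplex.exact_of_f_is_kernel _ ?_ }
    refine KernelFork.IsLimit.ofι' _ _ fun {T} t ht => ⟨kernel.lift α t ?_, kernel.lift_ι _ _ _⟩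
    rw [← Abelian.image.fac α, reassoc_of% ht, zero_comp]
  obtain ⟨x, hx⟩ := surjective_comp_of_HH_one hS (subsingleton_HH_of_iso eK 1 h1) y'
  have hx' : x ≫ α = y := by
    refine (congrArg (x ≫ ·) (Abelian.image.fac α)).symm.trans ?_
    rw [← Category.assoc]
    exact (congrArg (· ≫ Abelian.image.ι α) hx).trans (kernel.lift_ι _ _ _)
  refine ⟨SheafHomX.ev N C x, ?_⟩
  have h2 := ev_homMap f x
  rw [show x ≫ (SheafHomX.homMap f).app C = y from hx', AddEquiv.apply_symm_apply] at h2
  exact h2.symm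

end Groth.Agent.LiftGlue
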