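import Groth.Agent.LiftGlue.ExtVanish
import Groth.Agent.LiftGlue.LocalRetraction
import Groth.Agent.LiftGlue.Scheme
import Groth.Agent.S9375
import Groth.Agent.OmegaLib.AffineHom

/-!
# Gluing local lifts when `H¹(Hom(a₀^*Ω, J))` vanishes
-/

set_option autoImplicit false
attribute [-instance] CategoryTheory.catToReflQuiver
set_option linter.style.haveILetI false
set_option backward.isDefEq.respectTransparency false
set_option backward.isDefEq.respectTransparency.types false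
set_option maxHeartbeats 1000000

universe u

open CategoryTheory CategoryTheory.Limits AlgebraicGeometry TopologicalSpace Opposite

namespace Groth.Agent.LiftGlue

variable {T₀ T W : Scheme.{u}} (i : T₀ ⟶ T) (π : W ⟶ T) (s : T₀ ⟶ W)

/-- The conormal sheaf cut off to the part over an open. -/
noncomputable abbrev cut (U : T.Opens) : T₀.Modules :=
  (Scheme.Modules.pushforward (i ⁻¹ᵁ U).ι).obj ((Omega.conormal i).restrict (i ⁻¹ᵁ U).ι)

/-- The map to the cut off sheaf. -/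
noncomputable abbrev toCut (U : T.Opens) : Omega.conormal i ⟶ cut i U :=
  (Scheme.Modules.restrictAdjunction (i ⁻¹ᵁ U).ι).unit.app (Omega.conormal i)

theorem isIso_restrict_toCut (U : T.Opens) :
    IsIso ((Scheme.Modules.restrictFunctor (i ⁻¹ᵁ U).ι).map (toCut i U)) := by
  let adj := Scheme.Modules.restrictAdjunction (i ⁻¹ᵁ U).ι
  have h : (Scheme.Modules.restrictFunctor (i ⁻¹ᵁ U).ι).map (toCut i U) ≫
      adj.counit.app ((Scheme.Modules.restrictFunctor (i ⁻¹ᵁ U).ι).obj (Omega.conormal i)) = 𝟙 _ :=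
    adj.left_triangle_components _
  haveI : IsIso ((Scheme.Modules.restrictFunctor (i ⁻¹ᵁ U).ι).map (toCut i U) ≫
      adj.counit.app ((Scheme.Modules.restrictFunctor (i ⁻¹ᵁ U).ι).obj (Omega.conormal i))) := by
    rw [h]; infer_instance
  exact IsIso.of_isIso_comp_right _
    (adj.counit.app ((Scheme.Modules.restrictFunctor (i ⁻¹ᵁ U).ι).obj (Omega.conormal i)))

variable [QuasiCompact i] [QuasiCompact s] (U : T.Opens) (σ : (U : Scheme.{u}) ⟶ W)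
  (hσ : (i ∣_ U) ≫ σ = (i ⁻¹ᵁ U).ι ≫ s)

include hσ in
theorem dom_le (V : W.Opens) :
    (i ⁻¹ᵁ U).ι ''ᵁ ((i ⁻¹ᵁ U).ι ⁻¹ᵁ (s ⁻¹ᵁ V)) ≤ i ⁻¹ᵁ (U.ι ''ᵁ (σ ⁻¹ᵁ V)) := by
  rintro _ ⟨z, hz, rfl⟩
  refine ⟨(i ∣_ U) z, ?_, ?_⟩
  · show σ ((i ∣_ U) z) ∈ V
    rw [← Scheme.Hom.comp_apply, hσ, Scheme.Hom.comp_apply]
    exact hz
  · show U.ι ((i ∣_ U) z) = i ((i ⁻¹ᵁ U).ι z)
    rw [← Scheme.Hom.comp_apply, morphismRestrict_ι, Scheme.Hom.comp_apply]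

include hσ in
theorem app_eq (V : W.Opens) (a : Γ(W, V)) :
    i.appLE (U.ι ''ᵁ (σ ⁻¹ᵁ V)) ((i ⁻¹ᵁ U).ι ''ᵁ ((i ⁻¹ᵁ U).ι ⁻¹ᵁ (s ⁻¹ᵁ V))) (dom_le i s U σ hσ V) (σ.app V a) =
      T₀.presheaf.map (homOfLE ((i ⁻¹ᵁ U).ι.image_preimage_le _)).op (s.app V a) := by
  have key : ∀ g : ((i ⁻¹ᵁ U : T₀.Opens) : Scheme.{u}) ⟶ W, g = (i ⁻¹ᵁ U).ι ≫ s →
      ∀ h : (i ⁻¹ᵁ U).ι ⁻¹ᵁ (s ⁻¹ᵁ V) ≤ g ⁻¹ᵁ V,
        g.appLE V _ h a = ((i ⁻¹ᵁ U).ι ≫ s).appLE V ((i ⁻¹ᵁ U).ι ⁻¹ᵁ (s ⁻¹ᵁ V)) le_rfl a := by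
    rintro _ rfl h; rfl
  have h := key _ hσ (fun z hz => by
    show σ ((i ∣_ U) z) ∈ V
    rw [← Scheme.Hom.comp_apply, hσ, Scheme.Hom.comp_apply]
    exact hz)
  rw [Scheme.Hom.comp_appLE, CommRingCat.comp_apply, morphismRestrict_appLE, Scheme.Hom.comp_appLE,
    CommRingCat.comp_apply] at h
  refine h.trans ?_
  rw [Scheme.Opens.ι_appLE]
  rfl

include hσ in
theorem exists_cutRel (V : W.Opens) (k : Γ(ClSub.idealMod s.ker, V)) :
    ∃ m : Γ(ClSub.idealMod i.ker, U.ι ''ᵁ (σ ⁻¹ᵁ V)),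
      OmegaSh.idealSect i.ker (U.ι ''ᵁ (σ ⁻¹ᵁ V)) m = σ.app V (OmegaSh.idealSect s.ker V k) := by
  refine OmegaUniv.exists_idealSect_of_app_eq_zero i _ _ ?_
  refine T₀.sheaf.eq_of_locally_eq' (fun _ : PUnit.{1} => (i ⁻¹ᵁ U).ι ''ᵁ ((i ⁻¹ᵁ U).ι ⁻¹ᵁ (s ⁻¹ᵁ V)))
    (i ⁻¹ᵁ (U.ι ''ᵁ (σ ⁻¹ᵁ V))) (fun _ => homOfLE (dom_le i s U σ hσ V)) ?_ _ _ fun _ => ?_
  · intro z hz
    obtain ⟨y, hy, hyz⟩ := (hz : i z ∈ U.ι ''ᵁ (σ ⁻¹ᵁ V))
    have hzU : z ∈ i ⁻¹ᵁ U := by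
      show i z ∈ U
      rw [← hyz]; exact y.2
    refine Opens.mem_iSup.mpr ⟨⟨⟩, ⟨z, hzU⟩, ?_, rfl⟩
    show s ((i ⁻¹ᵁ U).ι ⟨z, hzU⟩) ∈ V
    rw [← Scheme.Hom.comp_apply, ← hσ, Scheme.Hom.comp_apply]
    have : (i ∣_ U) ⟨z, hzU⟩ = y := U.ι.isOpenEmbedding.injective (by
      rw [← Scheme.Hom.comp_apply, morphismRestrict_ι, Scheme.Hom.comp_apply]
      exact hyz.symm)
    rw [this]; exact hy
  · show T₀.presheaf.map _ (i.app _ _) = T₀.presheaf.map _ 0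
    rw [map_zero]
    exact (app_eq i s U σ hσ V _).trans (by rw [OmegaUniv.app_idealSect, map_zero])

/-- The value of the local retraction on a section of the ideal. -/
noncomputable def cutFun (V : W.Opens) (k : Γ(ClSub.idealMod s.ker, V)) :
    Γ((Scheme.Modules.pushforward s).obj (cut i U), V) :=
  (Omega.conormal i).presheaf.map (homOfLE (dom_le i s U σ hσ V)).op
    (OmegaSh.conormalSect i _ (exists_cutRel i s U σ hσ V k).choose)

theorem cutFun_eq (V : W.Opens) (k : Γ(ClSub.idealMod s.ker, V))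
    (m : Γ(ClSub.idealMod i.ker, U.ι ''ᵁ (σ ⁻¹ᵁ V)))
    (hm : OmegaSh.idealSect i.ker (U.ι ''ᵁ (σ ⁻¹ᵁ V)) m = σ.app V (OmegaSh.idealSect s.ker V k)) :
    cutFun i s U σ hσ V k = (Omega.conormal i).presheaf.map (homOfLE (dom_le i s U σ hσ V)).op
      (OmegaSh.conormalSect i _ m) := by
  rw [cutFun, OmegaLib.idealSect_injective i.ker _
    ((exists_cutRel i s U σ hσ V k).choose_spec.trans hm.symm)]

theorem cut_smul (V : W.Opens) (a : Γ(W, V))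
    (x : Γ(Omega.conormal i, (i ⁻¹ᵁ U).ι ''ᵁ ((i ⁻¹ᵁ U).ι ⁻¹ᵁ (s ⁻¹ᵁ V)))) :
    a • (show Γ((Scheme.Modules.pushforward s).obj (cut i U), V) from x) =
      (show Γ((Scheme.Modules.pushforward s).obj (cut i U), V) from
        (T₀.presheaf.map (homOfLE ((i ⁻¹ᵁ U).ι.image_preimage_le _)).op (s.app V a) • x :
          Γ(Omega.conormal i, (i ⁻¹ᵁ U).ι ''ᵁ ((i ⁻¹ᵁ U).ι ⁻¹ᵁ (s ⁻¹ᵁ V))))) := by
  show ((i ⁻¹ᵁ U).ι.appIso _).inv ((i ⁻¹ᵁ U).ι.app (s ⁻¹ᵁ V) (s.app V a)) • x = _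
  simp only [Scheme.Opens.ι_appIso, Scheme.Opens.ι_app]
  rfl

theorem cutFun_add (V : W.Opens) (k k' : Γ(ClSub.idealMod s.ker, V)) :
    cutFun i s U σ hσ V (k + k') = cutFun i s U σ hσ V k + cutFun i s U σ hσ V k' := by
  have h1 := (exists_cutRel i s U σ hσ V k).choose_spec
  have h2 := (exists_cutRel i s U σ hσ V k').choose_spec
  refine (cutFun_eq i s U σ hσ V (k + k')
    ((exists_cutRel i s U σ hσ V k).choose + (exists_cutRel i s U σ hσ V k').choose) ?_).trans ?_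
  · rw [map_add, map_add, h1, h2]; exact (map_add _ _ _).symm
  · rw [map_add, map_add]; rfl

theorem cutFun_smul (V : W.Opens) (a : Γ(W, V)) (k : Γ(ClSub.idealMod s.ker, V)) :
    cutFun i s U σ hσ V (a • k) = a • cutFun i s U σ hσ V k := by
  have h1 := (exists_cutRel i s U σ hσ V k).choose_spec
  refine (cutFun_eq i s U σ hσ V (a • k)
    ((show Γ(T, U.ι ''ᵁ (σ ⁻¹ᵁ V)) from σ.app V a) • (exists_cutRel i s U σ hσ V k).choose) ?_).trans ?_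
  · rw [OmegaLib.idealSect_smul, OmegaLib.idealSect_smul, h1]
    exact (map_mul _ _ _).symm
  · refine Eq.trans ?_ (cut_smul i s U V a _).symm
    rw [conormalSect_smul, Scheme.Modules.map_smul]
    have e := app_eq i s U σ hσ V a
    rw [Scheme.Hom.appLE, CommRingCat.comp_apply] at e
    rw [e]
    rfl

theorem cut_map {V V' : W.Opens} (hV : V' ≤ V)
    (h : (i ⁻¹ᵁ U).ι ''ᵁ ((i ⁻¹ᵁ U).ι ⁻¹ᵁ (s ⁻¹ᵁ V')) ≤ (i ⁻¹ᵁ U).ι ''ᵁ ((i ⁻¹ᵁ U).ι ⁻¹ᵁ (s ⁻¹ᵁ V)))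
    (x : Γ(Omega.conormal i, (i ⁻¹ᵁ U).ι ''ᵁ ((i ⁻¹ᵁ U).ι ⁻¹ᵁ (s ⁻¹ᵁ V)))) :
    ((Scheme.Modules.pushforward s).obj (cut i U)).presheaf.map (homOfLE hV).op
        (show Γ((Scheme.Modules.pushforward s).obj (cut i U), V) from x) =
      (show Γ((Scheme.Modules.pushforward s).obj (cut i U), V') from
        (Omega.conormal i).presheaf.map (homOfLE h).op x) := by
  rfl

theorem cutFun_map {V V' : W.Opens} (hV : V' ≤ V) (k : Γ(ClSub.idealMod s.ker, V)) :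
    cutFun i s U σ hσ V' ((ClSub.idealMod s.ker).presheaf.map (homOfLE hV).op k) =
      ((Scheme.Modules.pushforward s).obj (cut i U)).presheaf.map (homOfLE hV).op (cutFun i s U σ hσ V k) := by
  have h1 := (exists_cutRel i s U σ hσ V k).choose_spec
  have hle : U.ι ''ᵁ (σ ⁻¹ᵁ V') ≤ U.ι ''ᵁ (σ ⁻¹ᵁ V) := U.ι.image_mono (σ.preimage_mono hV)
  refine (cutFun_eq i s U σ hσ V' ((ClSub.idealMod s.ker).presheaf.map (homOfLE hV).op k)
    ((ClSub.idealMod i.ker).presheaf.map (homOfLE hle).op (exists_cutRel i s U σ hσ V k).choose) ?_).trans ?_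
  · rw [OmegaLib.idealSect_map, h1, OmegaLib.idealSect_map]
    have n : σ.app V' (W.presheaf.map (homOfLE hV).op (OmegaSh.idealSect s.ker V k)) =
        (U : Scheme.{u}).presheaf.map (homOfLE (σ.preimage_mono hV)).op (σ.app V (OmegaSh.idealSect s.ker V k)) := by
      rw [← CommRingCat.comp_apply, σ.naturality (homOfLE hV).op, CommRingCat.comp_apply]
      rfl
    refine Eq.trans ?_ n.symm
    rw [Scheme.Opens.toScheme_presheaf_map]
    exact congrArg (fun e => T.presheaf.map e (σ.app V (OmegaSh.idealSect s.ker V k))) (Subsingleton.elim _ _)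
  · refine Eq.trans ?_ (cut_map i s U hV ((i ⁻¹ᵁ U).ι.image_mono ((i ⁻¹ᵁ U).ι.preimage_mono (s.preimage_mono hV))) _).symm
    rw [conormalSect_res, QCoh.map_map]
    unfold cutFun
    dsimp only
    rw [QCoh.map_map]
    exact congrArg (fun e : _ ⟶ _ => (Omega.conormal i).presheaf.map e.op (OmegaSh.conormalSect i _ (exists_cutRel i s U σ hσ V k).choose)) (Subsingleton.elim _ _)

/-- The local retraction, before adjunction. -/
noncomputable def cutHom : ClSub.idealMod s.ker ⟶ (Scheme.Modules.pushforward s).obj (cut i U) where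
  val := PresheafOfModules.homMk
    { app := fun V => AddCommGrpCat.ofHom (AddMonoidHom.mk' (fun k => cutFun i s U σ hσ V.unop k)
        (cutFun_add i s U σ hσ V.unop))
      naturality := fun V V' e => by
        ext k
        exact cutFun_map i s U σ hσ e.unop.le k }
    fun V a k => cutFun_smul i s U σ hσ V.unop a k

/-- The local retraction. -/
noncomputable def cutRetr : Omega.conormal s ⟶ cut i U :=
  ((Scheme.Modules.pullbackPushforwardAdjunction s).homEquiv _ _).symm (cutHom i s U σ hσ)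

theorem cutRetr_conormalSect (V : W.Opens) (k : Γ(ClSub.idealMod s.ker, V)) :
    (cutRetr i s U σ hσ).app (s ⁻¹ᵁ V) (OmegaSh.conormalSect s V k) = cutFun i s U σ hσ V k := by
  refine (OmegaLib.pullSect_adjoint s _ _ _ V k).trans ?_
  rw [cutRetr, Equiv.apply_symm_apply]
  rfl

theorem pullbackId_inv_app {X : Scheme.{u}} (M : X.Modules) (V : X.Opens) (x : Γ(M, V)) :
    ((Scheme.Modules.pullbackId X).inv.app M).app V x = OmegaSh.pullSect (𝟙 X) M V x :=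
  (congrArg (((Scheme.Modules.pullbackId X).inv.app M).app V) (pullbackId_hom_pullSect M V x).symm).trans
    (congrArg (fun φ => Scheme.Modules.Hom.app φ V (OmegaSh.pullSect (𝟙 X) M V x))
      ((Scheme.Modules.pullbackId X).hom_inv_id_app M))

theorem toCut_app (V : T₀.Opens) (x : Γ(Omega.conormal i, V)) :
    (toCut i U).app V x =
      (show Γ(cut i U, V) from
        (Omega.conormal i).presheaf.map (homOfLE ((i ⁻¹ᵁ U).ι.image_preimage_le V)).op x) := by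
  rfl

theorem ψ_conormalSect (hs : s ≫ π = i)
    (ψ : (Scheme.Modules.pullback (𝟙 T₀)).obj (Omega.conormal i) ⟶ Omega.conormal s)
    (hψ : OmegaSh.IsConormalMap s i π (𝟙 T₀) ψ) (O : T.Opens) (m : Γ(ClSub.idealMod i.ker, O))
    (h : i ⁻¹ᵁ O ≤ s ⁻¹ᵁ (π ⁻¹ᵁ O)) :
    ∃ k₀, OmegaSh.idealSect s.ker (π ⁻¹ᵁ O) k₀ = π.app O (OmegaSh.idealSect i.ker O m) ∧
      ((Scheme.Modules.pullbackId T₀).inv.app (Omega.conormal i) ≫ ψ).app (i ⁻¹ᵁ O)
          (OmegaSh.conormalSect i O m) =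
        (Omega.conormal s).presheaf.map (homOfLE h).op (OmegaSh.conormalSect s (π ⁻¹ᵁ O) k₀) := by
  have h0 : s.app (π ⁻¹ᵁ O) (π.app O (OmegaSh.idealSect i.ker O m)) = 0 := by
    subst hs
    rw [← CommRingCat.comp_apply, ← Scheme.Hom.comp_app]
    exact OmegaUniv.app_idealSect (s ≫ π) _ m
  obtain ⟨k₀, hk₀⟩ := OmegaUniv.exists_idealSect_of_app_eq_zero s (π ⁻¹ᵁ O) _ h0
  refine ⟨k₀, hk₀, ?_⟩
  have h2 := hψ.2 O m k₀ hk₀ (i ⁻¹ᵁ O) le_rfl h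
  exact (congrArg (ψ.app (i ⁻¹ᵁ O)) (pullbackId_inv_app (Omega.conormal i) (i ⁻¹ᵁ O) _)).trans
    ((QCoh.map_id' (M := Omega.conormal s) (homOfLE le_rfl) _).symm.trans h2)

theorem app_app_eq (hσπ : σ ≫ π = U.ι) (O : T.Opens) (hO' : U.ι ''ᵁ (σ ⁻¹ᵁ (π ⁻¹ᵁ O)) ≤ O) (x : Γ(T, O)) :
    T.presheaf.map (homOfLE hO').op x = σ.app (π ⁻¹ᵁ O) (π.app O x) := by
  have key : ∀ (g : (U : Scheme.{u}) ⟶ T), g = U.ι → ∀ (h : σ ⁻¹ᵁ (π ⁻¹ᵁ O) ≤ g ⁻¹ᵁ O),
      g.appLE O (σ ⁻¹ᵁ (π ⁻¹ᵁ O)) h x = T.presheaf.map (homOfLE hO').op x := by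
    rintro _ rfl h
    rw [Scheme.Opens.ι_appLE]
    rfl
  have h3 := key (σ ≫ π) hσπ le_rfl
  rw [Scheme.Hom.comp_appLE, CommRingCat.comp_apply, ← Scheme.Hom.app_eq_appLE] at h3
  exact h3.symm

theorem cut_res {A B : T₀.Opens} (h : B ≤ A)
    (x : Γ(Omega.conormal i, (i ⁻¹ᵁ U).ι ''ᵁ ((i ⁻¹ᵁ U).ι ⁻¹ᵁ A))) :
    (cut i U).presheaf.map (homOfLE h).op (show Γ(cut i U, A) from x) =
      (show Γ(cut i U, B) from (Omega.conormal i).presheaf.map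
        (homOfLE ((i ⁻¹ᵁ U).ι.image_mono ((i ⁻¹ᵁ U).ι.preimage_mono h))).op x) := by
  rfl

theorem cutRetr_res {V : W.Opens} {O : T₀.Opens} (h : O ≤ s ⁻¹ᵁ V) (k : Γ(ClSub.idealMod s.ker, V))
    (h' : (i ⁻¹ᵁ U).ι ''ᵁ ((i ⁻¹ᵁ U).ι ⁻¹ᵁ O) ≤ i ⁻¹ᵁ (U.ι ''ᵁ (σ ⁻¹ᵁ V)))
    (m : Γ(ClSub.idealMod i.ker, U.ι ''ᵁ (σ ⁻¹ᵁ V)))
    (hm : OmegaSh.idealSect i.ker (U.ι ''ᵁ (σ ⁻¹ᵁ V)) m = σ.app V (OmegaSh.idealSect s.ker V k)) :
    (cutRetr i s U σ hσ).app O ((Omega.conormal s).presheaf.map (homOfLE h).op (OmegaSh.conormalSect s V k)) =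
      (show Γ(cut i U, O) from (Omega.conormal i).presheaf.map (homOfLE h').op (OmegaSh.conormalSect i _ m)) := by
  rw [QCoh.map_app_comm, cutRetr_conormalSect, cutFun_eq i s U σ hσ V k m hm]
  refine (cut_res i U h _).trans ?_
  dsimp only
  rw [QCoh.map_map]
  rfl

include hσ in
/-- The local retraction splits the map of conormal sheaves. -/
theorem comp_cutRetr [IsClosedImmersion i] (hs : s ≫ π = i) (hσπ : σ ≫ π = U.ι)
    (ψ : (Scheme.Modules.pullback (𝟙 T₀)).obj (Omega.conormal i) ⟶ Omega.conormal s)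
    (hψ : OmegaSh.IsConormalMap s i π (𝟙 T₀) ψ) :
    ((Scheme.Modules.pullbackId T₀).inv.app (Omega.conormal i) ≫ ψ) ≫ cutRetr i s U σ hσ = toCut i U := by
  apply ((Scheme.Modules.pullbackPushforwardAdjunction i).homEquiv _ _).injective
  refine Scheme.Modules.hom_ext _ _ fun O => AddCommGrpCat.ext fun m => ?_
  rw [Adjunction.homEquiv_unit, Adjunction.homEquiv_unit]
  show (cutRetr i s U σ hσ).app (i ⁻¹ᵁ O)
      (((Scheme.Modules.pullbackId T₀).inv.app (Omega.conormal i) ≫ ψ).app (i ⁻¹ᵁ O)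
        (OmegaSh.conormalSect i O m)) = (toCut i U).app (i ⁻¹ᵁ O) (OmegaSh.conormalSect i O m)
  have hOO : i ⁻¹ᵁ O ≤ s ⁻¹ᵁ (π ⁻¹ᵁ O) := fun x hx => by
    show π (s x) ∈ O
    rw [← Scheme.Hom.comp_apply, hs]; exact hx
  obtain ⟨k₀, hk₀, hψ'⟩ := ψ_conormalSect i π s hs ψ hψ O m hOO
  have hO' : U.ι ''ᵁ (σ ⁻¹ᵁ (π ⁻¹ᵁ O)) ≤ O := by
    rintro _ ⟨y, hy, rfl⟩
    have : π (σ y) ∈ O := hy
    rwa [← Scheme.Hom.comp_apply, hσπ] at this
  have h' : (i ⁻¹ᵁ U).ι ''ᵁ ((i ⁻¹ᵁ U).ι ⁻¹ᵁ (i ⁻¹ᵁ O)) ≤ i ⁻¹ᵁ (U.ι ''ᵁ (σ ⁻¹ᵁ (π ⁻¹ᵁ O))) :=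
    ((i ⁻¹ᵁ U).ι.image_mono ((i ⁻¹ᵁ U).ι.preimage_mono hOO)).trans (dom_le i s U σ hσ (π ⁻¹ᵁ O))
  rw [hψ', cutRetr_res i s U σ hσ hOO k₀ h' ((ClSub.idealMod i.ker).presheaf.map (homOfLE hO').op m)
    (by rw [OmegaLib.idealSect_map, hk₀]; exact app_app_eq π U σ hσπ O hO' _), toCut_app, conormalSect_res]
  exact QCoh.map_map (M := Omega.conormal i) _ _ _

theorem exists_lift_of_H1 {S X T T₀ : Scheme.{u}}
    (f : X ⟶ S) [QuasiSeparated f]
    (i : T₀ ⟶ T) [IsClosedImmersion i]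
    (hsq : ∀ (U : T.affineOpens) (x y : Γ(T, U.1)),
      x ∈ RingHom.ker (i.app U.1).hom → y ∈ RingHom.ker (i.app U.1).hom → x * y = 0)
    (a : T ⟶ S) (a₀ : T₀ ⟶ X) (hsqr : a₀ ≫ f = i ≫ a)
    (ι : Type u) (U : ι → T.Opens) (hU : iSup U = ⊤) (b : ∀ j, (↑(U j) : Scheme.{u}) ⟶ X)
    (hb₁ : ∀ j, b j ≫ f = (U j).ι ≫ a)
    (hb₂ : ∀ j, (i ∣_ U j) ≫ b j = (i ⁻¹ᵁ U j).ι ≫ a₀)
    [DCoh.HasSheafHom ((Scheme.Modules.pullback a₀).obj (Omega.sheaf f))]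
    (hH1 : Subsingleton (Coh.HH T₀
      ((DCoh.sheafHom ((Scheme.Modules.pullback a₀).obj (Omega.sheaf f))).obj (Omega.conormal i)) 1)) :
    ∃ b' : T ⟶ X, b' ≫ f = a ∧ i ≫ b' = a₀ := by
  have hi2 := sq_eq_bot_of_forall i hsq
  haveI := surjective_of_sq i hi2
  let π := pullback.snd f a
  let s : T₀ ⟶ pullback f a := pullback.lift a₀ i hsqr
  have hs : s ≫ π = i := pullback.lift_snd _ _ _
  haveI : QuasiSeparated π := MorphismProperty.pullback_snd _ _ (inferInstance : QuasiSeparated f)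
  haveI : IsImmersion (s ≫ π) := by rw [hs]; infer_instance
  haveI : IsImmersion s := IsImmersion.of_comp s π
  haveI : QuasiCompact (s ≫ π) := by rw [hs]; infer_instance
  haveI : QuasiCompact s := QuasiCompact.of_comp s π
  have hu := OmegaUniv.isUniversal_dOmega π
  have huf := OmegaUniv.isUniversal_dOmega f
  obtain ⟨φ, hφ⟩ := GrpOmega.exists_conormalDiff π s _ (OmegaSh.dOmega π)
  obtain ⟨ψ, hψ, -⟩ := S9371.result s i π (𝟙 T₀) (by rw [Category.id_comp, hs])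
  obtain ⟨w, hex, hepi⟩ := S9375.result π s i hs _ _ hu ψ hψ φ hφ
  obtain ⟨c, hc, -⟩ := S9370.result f π (pullback.fst f a) a pullback.condition.symm _ _ huf _ _ hu
  haveI := S9386.result f a (pullback.fst f a) π (IsPullback.of_hasPullback f a) _ _ huf _ _ hu c hc
  let e : (Scheme.Modules.pullback s).obj (Omega.sheaf π) ≅ (Scheme.Modules.pullback a₀).obj (Omega.sheaf f) :=
    ((Scheme.Modules.pullback s).mapIso (asIso c)).symm ≪≫
      (Scheme.Modules.pullbackComp s (pullback.fst f a)).app _ ≪≫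
      (Scheme.Modules.pullbackCongr (pullback.lift_fst a₀ i hsqr)).app _
  let ψ' := (Scheme.Modules.pullbackId T₀).inv.app (Omega.conormal i) ≫ ψ
  have w' : ψ' ≫ φ = 0 := by simp only [ψ', Category.assoc, w, comp_zero]
  let eS : ShortComplex.mk ψ φ w ≅ ShortComplex.mk ψ' φ w' :=
    ShortComplex.isoMk ((Scheme.Modules.pullbackId T₀).app (Omega.conormal i)) (Iso.refl _) (Iso.refl _)
      (by simp [ψ']) (by simp)
  have hex' : (ShortComplex.mk ψ' φ w').Exact := ShortComplex.exact_of_iso eS hex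
  let eH : (SheafHomX.hom ((Scheme.Modules.pullback a₀).obj (Omega.sheaf f))).obj (Omega.conormal i) ≅
      (SheafHomX.hom ((Scheme.Modules.pullback s).obj (Omega.sheaf π))).obj (Omega.conormal i) :=
    { hom := (SheafHomX.homMap e.hom).app _
      inv := (SheafHomX.homMap e.inv).app _
      hom_inv_id := by rw [← SheafHomX.homMap_comp, e.inv_hom_id, SheafHomX.homMap_id]
      inv_hom_id := by rw [← SheafHomX.homMap_comp, e.hom_inv_id, SheafHomX.homMap_id] }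
  have h1 := subsingleton_HH_of_iso ((AmpleVan.sheafHomIso _).app (Omega.conormal i) ≪≫ eH) 1 hH1
  have hcov : IsOpenCover fun j => i ⁻¹ᵁ U j := by
    refine top_le_iff.mp fun x _ => ?_
    obtain ⟨j, hj⟩ := Opens.mem_iSup.mp (hU.symm ▸ trivial : i x ∈ iSup U)
    exact Opens.mem_iSup.mpr ⟨j, hj⟩
  let σ : ∀ j, (U j : Scheme.{u}) ⟶ pullback f a := fun j => pullback.lift (b j) (U j).ι (hb₁ j)
  have hσ : ∀ j, (i ∣_ U j) ≫ σ j = (i ⁻¹ᵁ U j).ι ≫ s := fun j => by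
    apply pullback.hom_ext
    · simp only [Category.assoc, σ, s, pullback.lift_fst, hb₂]
    · simp only [Category.assoc, σ, s, pullback.lift_snd, morphismRestrict_ι]
  obtain ⟨r, hr⟩ := exists_retraction_of_local ψ' φ w' hex' h1 (fun j => i ⁻¹ᵁ U j) hcov
    (fun j => cut i (U j)) (fun j => toCut i (U j)) (fun j => isIso_restrict_toCut i (U j))
    (fun j => cutRetr i s (U j) (σ j) (hσ j))
    (fun j => comp_cutRetr i π s (U j) (σ j) (hσ j) hs (pullback.lift_snd _ _ _) ψ hψ)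
  have hr' : ψ ≫ r = (Scheme.Modules.pullbackId T₀).hom.app (Omega.conormal i) := by
    rw [← cancel_epi ((Scheme.Modules.pullbackId T₀).inv.app (Omega.conormal i)), ← Category.assoc]
    exact hr.trans ((Scheme.Modules.pullbackId T₀).inv_hom_id_app (Omega.conormal i)).symm
  obtain ⟨ρ, hρ, hρ'⟩ := exists_section_of_retraction hs (by rw [pow_two]; exact hi2)
    (isRetr_of_retraction i π s hs ψ hψ r hr')
  refine ⟨ρ ≫ pullback.fst f a, ?_, by rw [reassoc_of% hρ', pullback.lift_fst]⟩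
  rw [Category.assoc, pullback.condition, reassoc_of% hρ]

end Groth.Agent.LiftGlue
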